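import Cfsg.Agent.H864.TD.Defs
import Cfsg.Agent.H922.RG.PhiB
import Cfsg.Agent.S2342

/-!
# S3509, row `³D₄(q)`: the covers by inner elements (helper864)

`m : MData RGDTwD4.hp r q K₀`, `Y = D₄(KK r)`, `V = LR m`.

* `HP` : every `r'`-element of `Y^σ` is of type `Φ₁₂`, or `q = 2` and it is a `3`-element, or it normalises a `Nice`
  subgroup;
* `HM` : the normal closure of an element of order `r` in the centralizer of an `r'`-element contains a long root
  element or an element of a new prime order;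
* `pprime` : no cover by `r'`-elements; `in_TD4` : no cover by inner elements.
-/

set_option autoImplicit false
set_option linter.unusedSectionVars false
open Cfsg

namespace Cfsg.Agent.H864.TD

open CoxeterSystem Subgroup MulAction Cfsg.Lie Cfsg.Lie.ChevalleyDatum Cfsg.Agent.H873.RG Cfsg.Agent.H316.U6
open Cfsg.Agent.ChevalleyStructure Cfsg.Agent.ChevalleyStructure.CoxeterGeom
  Cfsg.Agent.ChevalleyStructure.CoxeterGeomTypes Cfsg.Agent.Nodes Cfsg.Agent.Nodes.RGDChev
  Cfsg.Agent.KFacts.RgdField Cfsg.Agent.KFacts.RgdChevCoord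
open Cfsg.Agent.Tits.Roots
open Cfsg.Agent.BpExc Cfsg.Agent.BpExc.TorCent Cfsg.Agent.BpExc.Pair Cfsg.Agent.BpExc.LangFr Cfsg.Agent.H469.Exc
open Cfsg.Agent.H106.RC Cfsg.Agent.H327.RG Cfsg.Agent.H368.RG Cfsg.Agent.H380.RC Cfsg.Agent.H694.RG
open Cfsg.Agent.H169.RG (TorForm LR)
open Cfsg.Agent.H28.GenF (InD)
open scoped commutatorElement

/-! ### general facts -/

section gen

variable {G Ω : Type} [Group G] [Finite G] [MulAction G Ω] {N : Subgroup G}

/-- one element of `N` does not cover -/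
theorem not_cov_single [Nonempty Ω] (hE : Env G Ω N) {ι : Type*} {x : ι → G} {ρ : ι → ℕ} (hx : PF x ρ)
    (hs : ∀ i j, ρ i = ρ j) (hcov : Cov Ω x) : False := by
  obtain ⟨ω⟩ := ‹Nonempty Ω›
  obtain ⟨i, -⟩ := hcov ω
  have : Nonempty Ω := ⟨ω⟩
  refine hx.ne i (hE.single fun ω' => ?_)
  obtain ⟨j, hj⟩ := hcov ω'
  rwa [hx.inj (hs i j)]

/-- a generator of the group of a family -/
theorem exists_gen' {ι : Type} [Finite ι] {x : ι → G} {ρ : ι → ℕ} (hx : PF x ρ) :
    ∃ s ∈ closure (Set.range x), (∀ i, x i ∈ zpowers s) ∧ (∀ c, (∀ i, c * x i = x i * c) → c * s = s * c) ∧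
      (∀ i, ρ i ∣ orderOf s) ∧ ∃ n : ℕ, s ^ n = 1 ∧ ∀ p : ℕ, p.Prime → (∀ i, ρ i ≠ p) → n.Coprime p := by
  classical
  have := Fintype.ofFinite ι
  obtain ⟨s, hs, hs1⟩ := exists_gen x ρ hx.prime hx.inj hx.pow hx.comm
  have hcc : ∀ a ∈ closure (Set.range x), ∀ c : G, (∀ i, c * x i = x i * c) → c * a = a * c := by
    intro a ha c hc
    have h1 : closure (Set.range x) ≤ centralizer {c} := by
      rw [closure_le]
      rintro _ ⟨i, rfl⟩
      rw [SetLike.mem_coe, mem_centralizer_singleton_iff]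
      exact (hc i).symm
    exact (mem_centralizer_singleton_iff.1 (h1 ha)).symm
  have hpw : ∀ a ∈ closure (Set.range x), a ^ (∏ i, ρ i) = 1 := by
    intro a ha
    induction ha using closure_induction with
    | mem y hy =>
      obtain ⟨i, rfl⟩ := hy
      obtain ⟨k, hk⟩ := Finset.dvd_prod_of_mem ρ (Finset.mem_univ i)
      rw [hk, pow_mul, hx.pow, one_pow]
    | one => exact one_pow _
    | mul a b ha hb iha ihb =>
      have h1 : Commute a b := hcc b hb a fun i => (hcc a ha (x i) fun j => hx.comm i j).symm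
      rw [h1.mul_pow, iha, ihb, mul_one]
    | inv a _ iha => rw [inv_pow, iha, inv_one]
  refine ⟨s, hs, hs1, fun c hc => hcc s hs c hc, fun i => ?_, ∏ i, ρ i, hpw s hs, fun p hp hne => ?_⟩
  · have h3 := orderOf_dvd_of_mem_zpowers (hs1 i)
    have : Fact (ρ i).Prime := ⟨hx.prime i⟩
    rwa [orderOf_eq_prime (hx.pow i) (hx.ne i)] at h3
  · refine Nat.Coprime.prod_left fun i _ => ?_
    rw [Nat.coprime_primes (hx.prime i) hp]
    exact hne i

end gen

/-! ### the boxes as hypotheses -/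

section main

variable {r q : ℕ} [hr : Fact r.Prime] {K₀ : Type} [Group K₀] [Finite K₀] (m : MData RGDTwD4.hp r q K₀)

/-- the input for the `r'`-elements -/
def HP : Prop := ∀ s : Y4 r, m.σ s = s → ∀ d : ℕ, d.Coprime r → s ^ d = 1 →
  (∃ f : TorForm m s, ∀ v, f.θ (f.θ (f.θ (f.θ v))) + v = f.θ (f.θ v)) ∨ (q = 2 ∧ s ^ 27 = 1) ∨
    ∃ M, Nice m M ∧ s ∈ normalizer (M : Set (Y4 r))

/-- the input for the elements of order `r` -/
def HM : Prop := ∀ s u : Y4 r, m.σ s = s → s ≠ 1 → ∀ d : ℕ, d.Coprime r → s ^ d = 1 → m.σ u = u → u * s = s * u →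
  u ≠ 1 → u ^ r = 1 →
  (∃ v ∈ ncl m s u, LR m v) ∨ ∃ y ∈ ncl m s u, y ≠ 1 ∧ ∃ t : ℕ, t.Prime ∧ t ≠ r ∧ y ^ t = 1 ∧ ¬ t ∣ orderOf s

variable {m} {G Ω : Type} [Group G] [Finite G] [MulAction G Ω] [Finite Ω] [Nonempty Ω] {N : Subgroup G}
  (hE : Env G Ω N) (e : N ≃* K₀) (hF : H327.RG.Fr m.ι m.σ) {U : Y4 r → Subgroup (Y4 r)}
  (hY : YData m.ι (fixedSubgroup m.σ) r (LR m) U) (hIH : IHx (Nat.card K₀))
  (hdd : m.dd = 1) (hg : m.g = H129.TriD4.tri)
  (hd : H514.DP.MinDeg K₀ (q * (q ^ 4 - q ^ 2 + 1)))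

include hE e hF hY hIH in
/-- a member normalising a `Nice` subgroup -/
theorem nice_dead {κ : Type} [Finite κ] {x : κ → G} {ρ : κ → ℕ} (hx : PF x ρ) (hcov : Cov Ω x)
    (hN : ∀ i, x i ∈ N) (hp : ∀ i, ρ i ≠ r) {M : Subgroup (Y4 r)} (hM : Nice m M)
    (hn : ∀ i (h : x i ∈ N), m.ι (e ⟨x i, h⟩) ∈ normalizer (M : Set (Y4 r))) : False := by
  obtain ⟨hMN, hMne, hperf, ⟨S', i1, i2, π, hπ, hker, hNSA⟩, v, hvM, hV⟩ := hM
  have hrp : r.Prime := hr.out
  have hL := lrData hF hE e hY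
  have hMN' : lf e m.ι M ≤ N := lf_le M
  have hne' : lf e m.ι M ≠ N := by
    intro hN'
    apply hMne
    refine le_antisymm hMN ?_
    rintro _ ⟨a, rfl⟩
    have h1 : (e.symm a : G) ∈ lf e m.ι M := by rw [hN']; exact (e.symm a).2
    exact (H694.RG.Rep.mem_lf hF hMN (rep_symm (hE := hE) a)).1 h1
  have hnorm : ∀ i, x i ∈ normalizer (lf e m.ι M : Set G) := by
    intro i
    have h1 := hn i (hN i)
    have hz' : H694.RG.Rep hE e m.ι (x i) (m.ι (e ⟨x i, hN i⟩)) := rep_coe (hN i)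
    rw [mem_normalizer_iff] at h1 ⊢
    intro m'
    constructor
    · intro hm
      have hr : H694.RG.Rep hE e m.ι m' (m.ι (e ⟨m', lf_le _ hm⟩)) := rep_coe _
      have h2 := (H694.RG.Rep.mem_lf hF hMN hr).1 hm
      exact (H694.RG.Rep.mem_lf hF hMN ((hz'.mul hr).mul hz'.inv)).2 ((h1 _).1 h2)
    · intro hm
      have hr : H694.RG.Rep hE e m.ι (x i * m' * (x i)⁻¹) (m.ι (e ⟨_, lf_le _ hm⟩)) := rep_coe _
      have h2 := (H694.RG.Rep.mem_lf hF hMN hr).1 hm
      have h3 : m' = (x i)⁻¹ * (x i * m' * (x i)⁻¹) * (x i)⁻¹⁻¹ := by group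
      have h4 := (hz'.inv.mul hr).mul hz'.inv.inv
      rw [← h3] at h4
      refine (H694.RG.Rep.mem_lf hF hMN h4).2 ((h1 _).2 ?_)
      have h5 : m.ι (e ⟨x i, hN i⟩) * ((m.ι (e ⟨x i, hN i⟩))⁻¹ * m.ι (e ⟨_, lf_le _ hm⟩) *
          (m.ι (e ⟨x i, hN i⟩))⁻¹⁻¹) * (m.ι (e ⟨x i, hN i⟩))⁻¹ = m.ι (e ⟨_, lf_le _ hm⟩) := by group
      rwa [h5]
  obtain ⟨a, rfl⟩ := hMN hvM
  have hv : VG e m.ι (LR m) (e.symm a : G) := ⟨a, rfl, hV⟩
  have hvM' : (e.symm a : G) ∈ lf e m.ι M := mem_lf.2 ⟨a, hvM, rfl⟩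
  have key := fun ω : Ω => mrule_IHx hIH e hMN' hne' (perfect_equiv (lfEquiv e hF.inj hMN) hperf)
    (π.comp (lfEquiv e hF.inj hMN).toMonoidHom) (hπ.comp (lfEquiv e hF.inj hMN).surjective) (by
      intro m' hm
      have h1 : lfEquiv e hF.inj hMN m' ∈ π.ker := hm
      have h2 := hker h1
      rw [mem_center_iff] at h2 ⊢
      intro m''
      apply (lfEquiv e hF.inj hMN).injective
      rw [map_mul, map_mul]
      exact h2 _) hNSA hx hcov hnorm ω
  refine kill_lr hE hL hv (ι := {j // ∀ m' ∈ lf e m.ι M, x j * m' = m' * x j}) (x := fun j => x j)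
    (r := fun j => ρ j) (fun j => le_DG hF (hN j)) (fun j => hx.ne j) (fun j => hx.prime j) (fun j => hp j)
    (fun j => hx.pow j) (fun i j => hx.comm i j) (fun j => j.2 _ hvM') (fun ω => ?_)
  rcases key ω with h | ⟨j, hj, h⟩
  · exact Or.inl (h hvM')
  · exact Or.inr ⟨⟨j, hj⟩, h⟩

include hE e hF hY hIH hd hg in
/-- **No cover by `r'`-elements of `N`.** -/
theorem pprime (hP : HP m) {κ : Type} [Finite κ] {x : κ → G} {ρ : κ → ℕ} (hx : PF x ρ) (hcov : Cov Ω x)
    (hN : ∀ i, x i ∈ N) (hp : ∀ i, ρ i ≠ r) : False := by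
  obtain ⟨s, hs, hxs, -, -, n, hsn, hn⟩ := exists_gen' hx
  have hsN : s ∈ N := by
    have h1 : closure (Set.range x) ≤ N := by
      rw [closure_le]
      rintro _ ⟨i, rfl⟩
      exact hN i
    exact h1 hs
  have hpow : ∀ k : ℕ, (m.ι (e ⟨s, hsN⟩)) ^ k = 1 ↔ s ^ k = 1 := by
    intro k
    have h1 : H694.RG.Rep hE e m.ι s (m.ι (e ⟨s, hsN⟩)) := rep_coe hsN
    exact (H694.RG.Rep.pow_eq_one hF h1 k).symm
  rcases hP (m.ι (e ⟨s, hsN⟩)) (m.fix _) n (hn r hr.out hp) ((hpow n).2 hsn) with ⟨f, hf⟩ | ⟨hq2, h27⟩ | ⟨M, hM, hsM⟩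
  · exact H922.RG.not_cov12 hE e m hd hg hx hsN hxs f hf hcov
  · have h27' := (hpow 27).1 h27
    have h3 : ∀ i, ρ i = 3 := by
      intro i
      obtain ⟨k, hk⟩ := mem_zpowers_iff.1 (hxs i)
      have h4 : x i ^ 27 = 1 := by
        rw [← hk, ← zpow_natCast, ← zpow_mul, mul_comm, zpow_mul, zpow_natCast, h27', one_zpow]
      have : Fact (ρ i).Prime := ⟨hx.prime i⟩
      have h5 := orderOf_dvd_of_pow_eq_one h4
      rw [orderOf_eq_prime (hx.pow i) (hx.ne i), show 27 = 3 ^ 3 by norm_num] at h5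
      exact (Nat.prime_dvd_prime_iff_eq (hx.prime i) Nat.prime_three).1 ((hx.prime i).dvd_of_dvd_pow h5)
    exact not_cov_single hE hx (fun i j => by rw [h3, h3]) hcov
  · refine nice_dead hE e hF hY hIH hx hcov hN hp hM fun i hi => ?_
    obtain ⟨k, hk⟩ := mem_zpowers_iff.1 (hxs i)
    have h1 : m.ι (e ⟨x i, hi⟩) = (m.ι (e ⟨s, hsN⟩)) ^ k := by
      rw [← map_zpow, ← map_zpow]
      congr 2
      exact Subtype.ext hk.symm
    rw [h1]
    exact Subgroup.zpow_mem _ hsM k

include hE e hF in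
/-- transport of the normal closure -/
theorem mem_ncl {s u : G} (hs : s ∈ N) (hu : u ∈ N) {z : Y4 r} (hdd : m.dd = 1)
    (hz : z ∈ ncl m (m.ι (e ⟨s, hs⟩)) (m.ι (e ⟨u, hu⟩))) :
    ∃ c ∈ nclo (N ⊓ centralizer {s}) u, H694.RG.Rep hE e m.ι c z := by
  unfold ncl at hz
  induction hz using closure_induction with
  | mem z hz =>
    obtain ⟨c, hc, hcs, rfl⟩ := hz
    obtain ⟨a, rfl⟩ : c ∈ m.ι.range := by
      have h1 := m.pow_dd c hc
      rwa [hdd, pow_one] at h1
    have ha : H694.RG.Rep hE e m.ι (e.symm a : G) (m.ι a) := rep_symm a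
    have hu' : H694.RG.Rep hE e m.ι u (m.ι (e ⟨u, hu⟩)) := rep_coe hu
    have hs' : H694.RG.Rep hE e m.ι s (m.ι (e ⟨s, hs⟩)) := rep_coe hs
    refine ⟨(e.symm a : G) * u * (e.symm a : G)⁻¹, subset_closure ⟨_, ⟨(e.symm a).2, ?_⟩, rfl⟩,
      (ha.mul hu').mul ha.inv⟩
    exact mem_centralizer_singleton_iff.2 ((H694.RG.Rep.comm hF ha hs').2 hcs)
  | one => exact ⟨1, one_mem _, H694.RG.Rep.one⟩
  | mul z z' _ _ ih ih' =>
    obtain ⟨c, hc, h3⟩ := ih
    obtain ⟨c', hc', h4⟩ := ih'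
    exact ⟨c * c', mul_mem hc hc', h3.mul h4⟩
  | inv z _ ih =>
    obtain ⟨c, hc, h3⟩ := ih
    exact ⟨c⁻¹, inv_mem hc, h3.inv⟩

include hE e hF hY hIH hd hg hdd in
/-- **No cover by elements of `N`.** -/
theorem inner (hP : HP m) (hM : HM m) {κ : Type} [Finite κ] {x : κ → G} {ρ : κ → ℕ} (hx : PF x ρ) (hcov : Cov Ω x)
    (hN : ∀ i, x i ∈ N) : False := by
  classical
  by_cases hpi : ∃ i, ρ i = r
  · obtain ⟨i₀, hi₀⟩ := hpi
    have hrne : ∀ i, i ≠ i₀ → ρ i ≠ r := fun i hi h => hi (hx.inj (h.trans hi₀.symm))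
    by_cases hone : ∃ j, j ≠ i₀
    · obtain ⟨j₀, hj₀⟩ := hone
      have hx' : PF (fun j : {j // j ≠ i₀} => x j) (fun j => ρ j) :=
        ⟨fun i => hx.prime i, fun i j h => Subtype.ext (hx.inj h), fun i => hx.pow i, fun i => hx.ne i,
          fun i j => hx.comm i j⟩
      obtain ⟨s, hs, hxs, hcs, hρs, n, hsn, hn⟩ := exists_gen' hx'
      have hsN : s ∈ N := by
        have h1 : closure (Set.range fun j : {j // j ≠ i₀} => x j) ≤ N := by
          rw [closure_le]
          rintro _ ⟨i, rfl⟩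
          exact hN i
        exact h1 hs
      have hs1 : s ≠ 1 := by
        intro h1
        have h2 := hxs ⟨j₀, hj₀⟩
        rw [h1, zpowers_one_eq_bot, mem_bot] at h2
        exact hx.ne j₀ h2
      have huN := hN i₀
      have hus : x i₀ * s = s * x i₀ := hcs _ fun i => hx.comm i₀ i
      have hsR : H694.RG.Rep hE e m.ι s (m.ι (e ⟨s, hsN⟩)) := rep_coe hsN
      have huR : H694.RG.Rep hE e m.ι (x i₀) (m.ι (e ⟨x i₀, huN⟩)) := rep_coe huN
      have hord : orderOf (m.ι (e ⟨s, hsN⟩)) = orderOf s := by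
        apply Nat.dvd_antisymm
        · exact orderOf_dvd_of_pow_eq_one ((H694.RG.Rep.pow_eq_one hF hsR _).1 (pow_orderOf_eq_one s))
        · exact orderOf_dvd_of_pow_eq_one ((H694.RG.Rep.pow_eq_one hF hsR _).2 (pow_orderOf_eq_one _))
      -- the points not fixed by the other members
      have hxC : ∀ c ∈ N ⊓ centralizer {s}, ∀ j, j ≠ i₀ → c * x j = x j * c := by
        intro c hc j hj
        obtain ⟨k, hk⟩ := mem_zpowers_iff.1 (hxs ⟨j, hj⟩)
        have h1 : Commute c s := mem_centralizer_singleton_iff.1 hc.2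
        have h2 := h1.zpow_right k
        rw [show s ^ k = x j from hk] at h2
        exact h2
      have h2 : ∀ z ∈ nclo (N ⊓ centralizer {s}) (x i₀), ∀ ω : Ω, (∃ j, j ≠ i₀ ∧ x j • ω = ω) ∨ z • ω = ω := by
        intro z hz ω
        refine nclo_fix (F := N ⊓ centralizer {s}) (u := x i₀) (P := fun ω => ∃ j, j ≠ i₀ ∧ x j • ω = ω) ?_ ?_ hz ω
        · rintro c hc ω ⟨j, hj, h⟩
          refine ⟨j, hj, ?_⟩
          rw [← mul_smul, ← hxC c hc j hj, mul_smul] at h
          exact MulAction.injective c h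
        · intro ω
          obtain ⟨j, h⟩ := hcov ω
          by_cases hji : j = i₀
          · right; rw [← hji]; exact h
          · exact Or.inl ⟨j, hji, h⟩
      have hle : nclo (N ⊓ centralizer {s}) (x i₀) ≤ N ⊓ centralizer {s} :=
        nclo_le ⟨huN, mem_centralizer_singleton_iff.2 hus⟩
      rcases hM (m.ι (e ⟨s, hsN⟩)) (m.ι (e ⟨x i₀, huN⟩)) (m.fix _) (fun h => hs1 ((H694.RG.Rep.eq_one hF hsR).2 h)) n
        (hn r hr.out fun i => hrne i i.2) ((H694.RG.Rep.pow_eq_one hF hsR n).1 hsn) (m.fix _)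
        ((H694.RG.Rep.comm hF huR hsR).1 hus) (fun h => hx.ne i₀ ((H694.RG.Rep.eq_one hF huR).2 h))
        ((H694.RG.Rep.pow_eq_one hF huR r).1 (by rw [← hi₀]; exact hx.pow i₀)) with ⟨v, hv, hV⟩ | ⟨y, hy, hy1, t, ht, htr, hyt, hts⟩
      · obtain ⟨c, hc, hcR⟩ := mem_ncl hE e hF hsN huN hdd hv
        have hcN : c ∈ N := (hle hc).1
        have hVc : VG e m.ι (LR m) c := by
          refine ⟨e ⟨c, hcN⟩, by rw [e.symm_apply_apply], ?_⟩
          have h3 : m.ι (e ⟨c, hcN⟩) = v := H694.RG.Rep.unique hF (rep_coe (hE := hE) hcN) hcR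
          rw [h3]
          exact hV
        refine kill_lr hE (lrData hF hE e hY) hVc (ι := {j // j ≠ i₀}) (x := fun j => x j) (r := fun j => ρ j)
          (fun j => le_DG hF (hN j)) (fun j => hx.ne j) (fun j => hx.prime j) (fun j => hrne j j.2)
          (fun j => hx.pow j) (fun i j => hx.comm i j) (fun j => (hxC c (hle hc) j j.2).symm) (fun ω => ?_)
        rcases h2 c hc ω with ⟨j, hj, h⟩ | h
        · exact Or.inr ⟨⟨j, hj⟩, h⟩
        · exact Or.inl h
      · obtain ⟨c, hc, hcR⟩ := mem_ncl hE e hF hsN huN hdd hy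
        have hcN : c ∈ N := (hle hc).1
        have hc1 : c ≠ 1 := fun h => hy1 ((H694.RG.Rep.eq_one hF hcR).1 h)
        have hct : c ^ t = 1 := (H694.RG.Rep.pow_eq_one hF hcR t).2 hyt
        rw [hord] at hts
        refine pprime hE e hF hY hIH hg hd hP (x := Function.update x i₀ c) (ρ := Function.update ρ i₀ t)
          ⟨fun i => ?_, ?_, fun i => ?_, fun i => ?_, fun i j => ?_⟩ (fun ω => ?_) (fun i => ?_) (fun i => ?_)
        · by_cases hi : i = i₀
          · subst hi; rw [Function.update_self]; exact ht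
          · rw [Function.update_of_ne hi]; exact hx.prime i
        · intro i j hij
          by_cases hi : i = i₀ <;> by_cases hj : j = i₀
          · rw [hi, hj]
          · rw [hi, Function.update_self, Function.update_of_ne hj] at hij
            exact absurd (hij ▸ hρs ⟨j, hj⟩) hts
          · rw [hj, Function.update_self, Function.update_of_ne hi] at hij
            exact absurd (hij ▸ hρs ⟨i, hi⟩) hts
          · rw [Function.update_of_ne hi, Function.update_of_ne hj] at hij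
            exact hx.inj hij
        · by_cases hi : i = i₀
          · subst hi; rw [Function.update_self, Function.update_self]; exact hct
          · rw [Function.update_of_ne hi, Function.update_of_ne hi]; exact hx.pow i
        · by_cases hi : i = i₀
          · subst hi; rw [Function.update_self]; exact hc1
          · rw [Function.update_of_ne hi]; exact hx.ne i
        · by_cases hi : i = i₀ <;> by_cases hj : j = i₀
          · rw [hi, hj]
          · rw [hi, Function.update_self, Function.update_of_ne hj]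
            exact hxC c (hle hc) j hj
          · rw [hj, Function.update_self, Function.update_of_ne hi]
            exact (hxC c (hle hc) i hi).symm
          · rw [Function.update_of_ne hi, Function.update_of_ne hj]
            exact hx.comm i j
        · rcases h2 c hc ω with ⟨j, hj, h⟩ | h
          · exact ⟨j, by rwa [Function.update_of_ne hj]⟩
          · exact ⟨i₀, by rwa [Function.update_self]⟩
        · by_cases hi : i = i₀
          · subst hi; rw [Function.update_self]; exact hcN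
          · rw [Function.update_of_ne hi]; exact hN i
        · by_cases hi : i = i₀
          · subst hi; rw [Function.update_self]; exact htr
          · rw [Function.update_of_ne hi]; exact hrne i hi
    · push Not at hone
      exact not_cov_single hE hx (fun i j => by rw [hone i, hone j]) hcov
  · push Not at hpi
    exact pprime hE e hF hY hIH hg hd hP hx hcov hN hpi

end main

/-- **The inner part of the row.** -/
theorem in_of {r q : ℕ} [hr : Fact r.Prime] {K₀ : Type} [Group K₀] [Finite K₀] (m : MData RGDTwD4.hp r q K₀)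
    (hF : H327.RG.Fr m.ι m.σ) {U : Y4 r → Subgroup (Y4 r)} (hY : YData m.ι (fixedSubgroup m.σ) r (LR m) U)
    (hdd : m.dd = 1) (hg : m.g = H129.TriD4.tri) (hd : H514.DP.MinDeg K₀ (q * (q ^ 4 - q ^ 2 + 1)))
    (hP : HP m) (hM : HM m) : H268.RX.InK m.ι := by
  intro hIH G _ _ Ω _ _ _ N hE e κ _ x ρ hx hcov hD
  refine inner hE e hF hY hIH hdd hg hd hP hM hx hcov fun i => ?_
  obtain ⟨y, hy⟩ := hD i
  have hy' : H694.RG.Rep hE e m.ι (x i) y := hy
  have h1 := m.pow_dd y (H694.RG.Rep.fix hF hy')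
  rw [hdd, pow_one] at h1
  exact (H694.RG.Rep.mem_N hF hy').2 h1

end Cfsg.Agent.H864.TD
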